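import Mathlib.GroupTheory.PGroup
import Mathlib.GroupTheory.Sylow
import Mathlib.GroupTheory.Commutator.Basic
import Mathlib.GroupTheory.Abelianization.Defs
import Mathlib.GroupTheory.QuotientGroup.Basic
import Mathlib.GroupTheory.Nilpotent
import Mathlib.Tactic

/-!
# Breadth and the derived subgroup of a finite `p`-group (Vaughan-Lee)

Induction on the statement: if all elements outside a proper subgroup `H` have breadth at most `b`,
and those outside `H ∪ K` breadth at most `b - 1`, where `K` is normal of index `p ^ e` with `e ≤ b`,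
then `|G'| p ^ e ≤ p ^ (b (b + 1) / 2)`.
-/

set_option autoImplicit false

namespace Cfsg.Agent.Breadth

open Subgroup
open scoped commutatorElement

/-- triangular numbers -/
def tri : ℕ → ℕ
  | 0 => 0
  | b + 1 => tri b + (b + 1)

theorem tri_eq (b : ℕ) : tri b = b * (b + 1) / 2 := by
  induction b with
  | zero => rfl
  | succ b ih =>
    rw [tri, ih, show (b + 1) * (b + 1 + 1) = b * (b + 1) + 2 * (b + 1) by ring,
      Nat.add_mul_div_left _ _ two_pos]

theorem le_tri (b : ℕ) : b ≤ tri b := by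
  cases b with
  | zero => exact le_refl _
  | succ b => simp [tri]

variable {G : Type*} [Group G]

/-- a proper subgroup's complement generates -/
theorem eq_top_of_compl_subset {H S : Subgroup G} (hH : H ≠ ⊤) (h : ∀ x, x ∉ H → x ∈ S) : S = ⊤ := by
  obtain ⟨x, -, hx⟩ := SetLike.exists_of_lt hH.lt_top
  refine (Subgroup.eq_top_iff' S).2 fun y => ?_
  by_cases hy : y ∈ H
  · have h1 : y * x ∉ H := fun h' => hx ((H.mul_mem_cancel_left hy).1 h')
    simpa using S.mul_mem (h _ h1) (S.inv_mem (h _ hx))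
  · exact h y hy

/-- centraliser index in a subgroup -/
theorem index_centralizer_subgroup (M : Subgroup G) (m : M) :
    (centralizer ({m} : Set M)).index = (centralizer ({(m : G)} : Set G)).relIndex M := by
  rw [Subgroup.relIndex]
  congr 1
  ext x
  rw [Subgroup.mem_subgroupOf, mem_centralizer_singleton_iff, mem_centralizer_singleton_iff,
    ← M.coe_mul, ← M.coe_mul, Subtype.coe_inj]

section pgroup

variable {p : ℕ} [hp : Fact p.Prime] [Finite G] (hG : IsPGroup p G)
include hG

theorem coatom_props {M : Subgroup G} (hM : IsCoatom M) : M.Normal ∧ M.index = p := by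
  haveI := hG.isNilpotent
  have hn : M.Normal := Group.normalizerCondition_of_isNilpotent.normal_of_coatom M hM
  refine ⟨hn, ?_⟩
  obtain ⟨k, hk⟩ := hG.index M
  rcases Nat.eq_zero_or_pos k with rfl | hk0
  · exact absurd (Subgroup.index_eq_one.1 (by simpa using hk)) hM.1
  · have hd : p ∣ Nat.card (G ⧸ M) := by
      rw [← Subgroup.index_eq_card, hk]; exact dvd_pow_self p (by omega)
    obtain ⟨x, hx⟩ := exists_prime_orderOf_dvd_card' p hd
    set N := (zpowers x).comap (QuotientGroup.mk' M) with hN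
    have h1 : N.index * p = M.index := by
      rw [hN, Subgroup.index_comap_of_surjective _ (QuotientGroup.mk'_surjective M), M.index_eq_card,
        ← (zpowers x).index_mul_card, Nat.card_zpowers, hx]
    have hMN : M ≤ N := fun y hy => by
      rw [hN, Subgroup.mem_comap, QuotientGroup.mk'_apply, (QuotientGroup.eq_one_iff y).2 hy]
      exact one_mem _
    have hp0 := hp.out.one_lt
    have hN0 := Nat.pos_of_ne_zero N.index_ne_zero_of_finite
    rcases hMN.eq_or_lt with h | h
    · rw [← h] at h1 hN0; nlinarith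
    · rw [hM.2 N h, index_top, one_mul] at h1
      exact h1.symm

/-- a subgroup is generated by its part in a maximal subgroup and any element outside -/
theorem le_inf_sup_zpowers {N S : Subgroup G} (hN : IsCoatom N) {x : G} (hx : x ∈ S) (hx' : x ∉ N) :
    S ≤ (S ⊓ N) ⊔ zpowers x := by
  obtain ⟨hn, hi⟩ := coatom_props hG hN
  intro y hy
  haveI := hn
  have hne : (QuotientGroup.mk x : G ⧸ N) ≠ 1 := fun h => hx' ((QuotientGroup.eq_one_iff x).1 h)
  obtain ⟨i, hi'⟩ : (QuotientGroup.mk y : G ⧸ N) ∈ zpowers (QuotientGroup.mk x : G ⧸ N) :=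
    mem_zpowers_of_prime_card (p := p) (by rw [← Subgroup.index_eq_card, hi]) hne
  have hN' : y * (x ^ i)⁻¹ ∈ N := by
    rw [← QuotientGroup.eq_one_iff, QuotientGroup.mk_mul, QuotientGroup.mk_inv, QuotientGroup.mk_zpow, ← hi']
    group
  have h1 : y * (x ^ i)⁻¹ ∈ S ⊓ N := ⟨S.mul_mem hy (S.inv_mem (zpow_mem hx i)), hN'⟩
  simpa using mul_mem (mem_sup_left (T := zpowers x) h1) (mem_sup_right (S := S ⊓ N) (zpow_mem (mem_zpowers x) i))

theorem pow_mem_iff_dvd {N : Subgroup G} (hN : IsCoatom N) {x : G} (hx : x ∉ N) (i : ℤ) :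
    x ^ i ∈ N ↔ (p : ℤ) ∣ i := by
  obtain ⟨hn, hi⟩ := coatom_props hG hN
  haveI := hn
  have ho : orderOf (QuotientGroup.mk x : G ⧸ N) = p := orderOf_eq_prime (by
    rw [← hi, ← QuotientGroup.mk_pow, QuotientGroup.eq_one_iff]
    exact N.pow_index_mem x) fun h => hx ((QuotientGroup.eq_one_iff x).1 h)
  rw [← QuotientGroup.eq_one_iff, QuotientGroup.mk_zpow, ← orderOf_dvd_iff_zpow_eq_one, ho]

/-- a maximal subgroup other than `H` meeting `K` inside `H` -/
theorem exists_coatom_avoid {H K : Subgroup G} (hH : IsCoatom H) (hK : K ≠ ⊤) (hKH : ¬ K ≤ H) :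
    ∃ M : Subgroup G, IsCoatom M ∧ M ≠ H ∧ K ⊓ M ≤ H := by
  obtain ⟨k, hk, hk'⟩ := SetLike.not_le_iff_exists.1 hKH
  obtain ⟨L, hL, hKL⟩ := (eq_top_or_exists_le_coatom K).resolve_left hK
  have hLH : ¬ H ≤ L := fun h => by
    rcases h.eq_or_lt with h | h
    · exact hk' (h ▸ hKL hk)
    · exact hL.1 (hH.2 L h)
  obtain ⟨h, hh, hh'⟩ := SetLike.not_le_iff_exists.1 hLH
  have hxH : h * k ∉ H := fun e => hk' ((H.mul_mem_cancel_left hh).1 e)
  have hxL : h * k ∉ L := fun e => hh' ((L.mul_mem_cancel_right (hKL hk)).1 e)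
  haveI := (coatom_props hG hH).1
  haveI := (coatom_props hG hL).1
  have hne : (H ⊓ L) ⊔ zpowers (h * k) ≠ ⊤ := fun htop => by
    have hmem : h ∈ (H ⊓ L) ⊔ zpowers (h * k) := htop ▸ mem_top h
    obtain ⟨d, hd, z, ⟨i, rfl⟩, e⟩ := Subgroup.mem_sup_of_normal_left.1 hmem
    have e1 : (h * k) ^ i = d⁻¹ * h := eq_inv_mul_iff_mul_eq.2 e
    have h1 : (h * k) ^ i ∈ H := by
      rw [e1]
      exact H.mul_mem (H.inv_mem hd.1) hh
    have h2 := L.mul_mem hd.2 ((pow_mem_iff_dvd hG hL hxL i).2 ((pow_mem_iff_dvd hG hH hxH i).1 h1))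
    rw [e1, mul_inv_cancel_left] at h2
    exact hh' h2
  obtain ⟨M, hM, hle⟩ := (eq_top_or_exists_le_coatom _).resolve_left hne
  have hxM : h * k ∈ M := hle (mem_sup_right (mem_zpowers _))
  have hMH : M ≠ H := fun e => hxH (e ▸ hxM)
  have hkM : k ∉ M := fun hkM => by
    have hhM : h ∈ M := (M.mul_mem_cancel_right hkM).1 hxM
    have hHM : H ≤ M := (le_inf_sup_zpowers hG hL hh hh').trans
      (sup_le (le_sup_left.trans hle) (zpowers_le.2 hhM))
    exact hMH ((hH.le_iff.1 hHM).resolve_left hM.1)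
  refine ⟨M, hM, hMH, fun x hx => by_contra fun hxH' => hkM ?_⟩
  exact ((le_inf_sup_zpowers hG hH hx.1 hxH').trans (sup_le (fun y hy => hle (mem_sup_left ⟨hy.2, hKL hy.1⟩))
    (zpowers_le.2 hx.2))) hk

/-- an element outside two maximal subgroups, outside `K` too if `K` is small -/
theorem exists_outside {H M : Subgroup G} (hH : IsCoatom H) (hM : IsCoatom M) (hne : M ≠ H) (K : Subgroup G)
    [hK : K.Normal] : ∃ g, g ∉ H ∧ g ∉ M ∧ (p * p ≤ K.index → g ∉ K) := by
  haveI := (coatom_props hG hH).1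
  haveI := (coatom_props hG hM).1
  have h1 : ¬ H ≤ M := fun h => by
    rcases h.eq_or_lt with h | h
    · exact hne h.symm
    · exact hM.1 (hH.2 M h)
  have h2 : ¬ M ≤ H := fun h => by
    rcases h.eq_or_lt with h | h
    · exact hne h
    · exact hH.1 (hM.2 H h)
  obtain ⟨x, hx, hx'⟩ := SetLike.not_le_iff_exists.1 h1
  obtain ⟨y, hy, hy'⟩ := SetLike.not_le_iff_exists.1 h2
  by_contra hcon
  push Not at hcon
  have key : ∀ d ∈ H ⊓ M, x * d * y ∈ K ∧ p * p ≤ K.index := fun d hd => by
    have a : x * d * y ∉ H := fun e => hy' ((H.mul_mem_cancel_left (mul_mem hx hd.1)).1 e)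
    have b : x * d * y ∉ M := fun e => hx' ((M.mul_mem_cancel_right hd.2).1 ((M.mul_mem_cancel_right hy).1 e))
    exact ⟨(hcon _ a b).2, (hcon _ a b).1⟩
  obtain ⟨k1, hp2⟩ := key 1 (one_mem _)
  rw [mul_one] at k1
  have hDK : H ⊓ M ≤ K := fun d hd => by
    have h3 : (x * y)⁻¹ * (x * (y * d * y⁻¹) * y) ∈ K :=
      mul_mem (inv_mem k1) (key _ ((inferInstance : (H ⊓ M).Normal).conj_mem d hd y)).1
    have e : (x * y)⁻¹ * (x * (y * d * y⁻¹) * y) = d := by group
    rwa [e] at h3
  have hlt : H ⊓ M < K := lt_of_le_of_ne hDK fun e => by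
    rw [← e] at k1
    exact hy' ((H.mul_mem_cancel_left hx).1 k1.1)
  have hidx : (H ⊓ M).index ≤ p * p :=
    (Subgroup.index_inf_le).trans (by rw [(coatom_props hG hH).2, (coatom_props hG hM).2])
  have := Subgroup.index_strictAnti hlt
  omega

end pgroup

/-- `m ↦ [m, g]` into the quotient by `[M, M]` -/
theorem comm_mul (M : Subgroup G) [M.Normal] (g : G) {a b : G} (ha : a ∈ M) (hb : b ∈ M) :
    (QuotientGroup.mk ⁅a * b, g⁆ : G ⧸ ⁅M, M⁆) = QuotientGroup.mk ⁅a, g⁆ * QuotientGroup.mk ⁅b, g⁆ := by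
  have hmem : ∀ x ∈ M, ⁅x, g⁆ ∈ M := fun x hx => by
    rw [commutatorElement_def, mul_assoc, mul_assoc, ← mul_assoc g]
    exact mul_mem hx ((inferInstance : M.Normal).conj_mem _ (inv_mem hx) g)
  have hcomm : ∀ u ∈ M, ∀ v ∈ M,
      (QuotientGroup.mk u : G ⧸ ⁅M, M⁆) * QuotientGroup.mk v = QuotientGroup.mk v * QuotientGroup.mk u :=
    fun u hu v hv => by
      rw [← QuotientGroup.mk_mul, ← QuotientGroup.mk_mul, QuotientGroup.eq]
      have h := Subgroup.commutator_mem_commutator (inv_mem hv) (inv_mem hu)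
      rw [commutatorElement_def] at h
      simpa [mul_assoc] using h
  have e : ⁅a * b, g⁆ = a * ⁅b, g⁆ * a⁻¹ * ⁅a, g⁆ := by
    simp only [commutatorElement_def]; group
  rw [e, QuotientGroup.mk_mul, QuotientGroup.mk_mul, QuotientGroup.mk_mul, hcomm a ha _ (hmem b hb),
    mul_assoc (QuotientGroup.mk ⁅b, g⁆ : G ⧸ ⁅M, M⁆), QuotientGroup.mk_inv, mul_inv_cancel, mul_one, hcomm _ (hmem b hb) _ (hmem a ha)]

/-- the hom `m ↦ [m, g]` modulo `[M, M]` -/
def commHom (M : Subgroup G) [M.Normal] (g : G) : M →* G ⧸ ⁅M, M⁆ :=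
  MonoidHom.mk' (fun m => QuotientGroup.mk ⁅(m : G), g⁆) fun a b => comm_mul M g a.2 b.2

theorem commHom_apply (M : Subgroup G) [M.Normal] (g : G) (m : M) :
    commHom M g m = QuotientGroup.mk ⁅(m : G), g⁆ := rfl

/-- the derived subgroup in terms of a maximal subgroup and one more element -/
theorem card_commutator_le [Finite G] {M : Subgroup G} [M.Normal] {g : G} (hsup : M ⊔ zpowers g = ⊤) :
    Nat.card (commutator G) ≤ Nat.card ↥⁅M, M⁆ * Nat.card (commHom M g).range := by
  have hR : ∀ x : G, ∀ q ∈ (commHom M g).range,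
      QuotientGroup.mk x * q * (QuotientGroup.mk x)⁻¹ ∈ (commHom M g).range := by
    intro x
    have hx : x ∈ M ⊔ zpowers g := hsup ▸ mem_top x
    rintro q ⟨m, rfl⟩
    obtain ⟨a, ha, z, ⟨i, rfl⟩, rfl⟩ := Subgroup.mem_sup_of_normal_left.1 hx
    refine ⟨⟨g ^ i * m * (g ^ i)⁻¹, (inferInstance : M.Normal).conj_mem _ m.2 _⟩, ?_⟩
    have hg : g ^ i * ⁅(m : G), g⁆ * (g ^ i)⁻¹ = ⁅g ^ i * m * (g ^ i)⁻¹, g⁆ := by
      simp only [commutatorElement_def]; group
    rw [commHom_apply, commHom_apply, ← QuotientGroup.mk_inv, ← QuotientGroup.mk_mul, ← QuotientGroup.mk_mul,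
      QuotientGroup.eq]
    show ⁅g ^ i * (m : G) * (g ^ i)⁻¹, g⁆⁻¹ * (a * g ^ i * ⁅(m : G), g⁆ * (a * g ^ i)⁻¹) ∈ ⁅M, M⁆
    rw [show a * g ^ i * ⁅(m : G), g⁆ * (a * g ^ i)⁻¹ = a * (g ^ i * ⁅(m : G), g⁆ * (g ^ i)⁻¹) * a⁻¹ by group, hg]
    have hc : ⁅g ^ i * (m : G) * (g ^ i)⁻¹, g⁆ ∈ M := by
      rw [commutatorElement_def, mul_assoc, mul_assoc, ← mul_assoc g]
      have h1 := (inferInstance : M.Normal).conj_mem _ m.2 (g ^ i)
      exact mul_mem h1 ((inferInstance : M.Normal).conj_mem _ (inv_mem h1) g)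
    have h := Subgroup.commutator_mem_commutator (inv_mem hc) ha
    rw [commutatorElement_def] at h
    simpa [mul_assoc] using h
  haveI hRn : (commHom M g).range.Normal := ⟨fun q hq y => by
    obtain ⟨x, rfl⟩ := QuotientGroup.mk_surjective y
    exact hR x q hq⟩
  let π : G →* (G ⧸ ⁅M, M⁆) ⧸ (commHom M g).range := (QuotientGroup.mk' _).comp (QuotientGroup.mk' _)
  have hπ : ∀ x y : G, ⁅x, y⁆ ∈ ⁅M, M⁆ ∨ (QuotientGroup.mk ⁅x, y⁆ : G ⧸ ⁅M, M⁆) ∈ (commHom M g).range →
      π x * π y = π y * π x := by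
    intro x y h
    have h1 : π ⁅x, y⁆ = 1 := by
      refine (QuotientGroup.eq_one_iff _).2 ?_
      rcases h with h | h
      · show (QuotientGroup.mk ⁅x, y⁆ : G ⧸ ⁅M, M⁆) ∈ _
        rw [(QuotientGroup.eq_one_iff _).2 h]
        exact one_mem _
      · exact h
    rw [map_commutatorElement] at h1
    exact commutatorElement_eq_one_iff_mul_comm.1 h1
  have hcen : ∀ x : G, π x ∈ Subgroup.center _ := by
    have hgen : M ⊔ zpowers g ≤ (Subgroup.center _).comap π := by
      have step : ∀ y : G, (∀ m ∈ M, π m * π y = π y * π m) → π g * π y = π y * π g →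
          π y ∈ Subgroup.center _ := by
        intro y h1 h2
        rw [Subgroup.mem_center_iff]
        intro q
        obtain ⟨q, rfl⟩ := QuotientGroup.mk_surjective q
        obtain ⟨x, rfl⟩ := QuotientGroup.mk_surjective q
        show π x * π y = π y * π x
        have hle : M ⊔ zpowers g ≤ (Subgroup.centralizer {π y}).comap π :=
          sup_le (fun m hm => Subgroup.mem_centralizer_singleton_iff.2 (h1 m hm))
            (zpowers_le.2 (Subgroup.mem_centralizer_singleton_iff.2 h2))
        exact Subgroup.mem_centralizer_singleton_iff.1 (hle (hsup ▸ mem_top x))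
      refine sup_le (fun m hm => step m (fun m' hm' => hπ m' m (Or.inl (Subgroup.commutator_mem_commutator hm' hm)))
        ((hπ m g (Or.inr ⟨⟨m, hm⟩, rfl⟩)).symm)) (zpowers_le.2 (step g
          (fun m hm => hπ m g (Or.inr ⟨⟨m, hm⟩, rfl⟩)) rfl))
    exact fun x => hgen (hsup ▸ mem_top x)
  have hle : commutator G ≤ (commHom M g).range.comap (QuotientGroup.mk' ⁅M, M⁆) := by
    rw [_root_.commutator_def, Subgroup.commutator_le]
    intro x _ y _
    have h1 : π ⁅x, y⁆ = 1 := by
      rw [map_commutatorElement, commutatorElement_eq_one_iff_mul_comm]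
      exact (Subgroup.mem_center_iff.1 (hcen x) _).symm
    exact (QuotientGroup.eq_one_iff (QuotientGroup.mk' ⁅M, M⁆ ⁅x, y⁆)).1 h1
  refine (Nat.card_le_card_of_injective _ (Subgroup.inclusion_injective hle)).trans (le_of_eq ?_)
  set S := (commHom M g).range.comap (QuotientGroup.mk' ⁅M, M⁆)
  have hi : S.index = (commHom M g).range.index :=
    Subgroup.index_comap_of_surjective _ (QuotientGroup.mk'_surjective _)
  refine Nat.eq_of_mul_eq_mul_left (Nat.pos_of_ne_zero S.index_ne_zero_of_finite) ?_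
  rw [S.index_mul_card, hi, mul_comm (Nat.card ↥⁅M, M⁆), ← mul_assoc, Subgroup.index_mul_card,
    ← Subgroup.card_eq_card_quotient_mul_card_subgroup]

theorem le_pred {p n b : ℕ} (hp : 0 < p) (h : n * p ≤ p ^ b) (hb : 1 ≤ b) : n ≤ p ^ (b - 1) := by
  obtain ⟨c, rfl⟩ : ∃ c, b = c + 1 := ⟨b - 1, by omega⟩
  rw [pow_succ] at h
  exact Nat.le_of_mul_le_mul_right h hp

universe u

theorem main (p : ℕ) [hp : Fact p.Prime] : ∀ (n : ℕ) (G : Type u) [Group G] [Finite G], IsPGroup p G →
    ∀ (b e : ℕ), Nat.card G + b ≤ n → e ≤ b → ∀ (H K : Subgroup G), H ≠ ⊤ → K.Normal → K.index = p ^ e →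
    (∀ x, x ∉ H → (centralizer ({x} : Set G)).index ≤ p ^ b) →
    (∀ x, x ∉ H → x ∉ K → (centralizer ({x} : Set G)).index * p ≤ p ^ b) →
    Nat.card (commutator G) * p ^ e ≤ p ^ tri b := by
  intro n
  induction n with
  | zero =>
    intro G _ _ _ b e hn
    have := Nat.card_pos (α := G)
    omega
  | succ n ih =>
    intro G _ _ hG b e hn he H0 K hH0 hKn hKi h1' h2'
    obtain ⟨H, hHc, hle⟩ := (eq_top_or_exists_le_coatom H0).resolve_left hH0
    have h1 : ∀ x, x ∉ H → (centralizer ({x} : Set G)).index ≤ p ^ b := fun x hx => h1' x fun h => hx (hle h)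
    have h2 : ∀ x, x ∉ H → x ∉ K → (centralizer ({x} : Set G)).index * p ≤ p ^ b :=
      fun x hx hx' => h2' x (fun h => hx (hle h)) hx'
    have hp1 := hp.out.one_lt
    have htriv : commutator G = ⊥ → Nat.card (commutator G) * p ^ e ≤ p ^ tri b := fun h => by
      rw [h, Subgroup.card_bot, one_mul]
      exact Nat.pow_le_pow_right hp.out.pos (he.trans (le_tri b))
    by_cases hab : commutator G = ⊥
    · exact htriv hab
    have hnc : ∀ x : G, zpowers x ≠ ⊤ := fun x hx => hab (by
      rw [commutator_eq_bot_iff_center_eq_top, Subgroup.eq_top_iff']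
      intro y
      rw [Subgroup.mem_center_iff]
      intro z
      obtain ⟨i, rfl⟩ := (hx ▸ mem_top z : z ∈ zpowers x)
      obtain ⟨j, rfl⟩ := (hx ▸ mem_top y : y ∈ zpowers x)
      exact Commute.zpow_zpow_self x i j)
    have hb : 1 ≤ b := Nat.one_le_iff_ne_zero.2 fun hb0 => by
      subst hb0
      refine hab ((commutator_eq_bot_iff_center_eq_top G).2 (eq_top_of_compl_subset hHc.1 fun x hx => ?_))
      have h3 := h1 x hx
      rw [pow_zero] at h3
      have h4 : centralizer ({x} : Set G) = ⊤ :=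
        Subgroup.index_eq_one.1 (le_antisymm h3 (Nat.pos_of_ne_zero Subgroup.index_ne_zero_of_finite))
      rw [Subgroup.mem_center_iff]
      intro y
      have h5 : y ∈ centralizer ({x} : Set G) := h4 ▸ mem_top y
      exact mem_centralizer_singleton_iff.1 h5
    obtain ⟨c, rfl⟩ : ∃ c, b = c + 1 := ⟨b - 1, by omega⟩
    by_cases hKH : 1 ≤ e ∧ K ≤ H
    · have h3 := ih G hG c 0 (by omega) (Nat.zero_le _) H ⊤ hHc.1 inferInstance (by simp)
        (fun x hx => le_pred hp.out.pos (h2 x hx fun h => hx (hKH.2 h)) hb) (fun x _ hx' => absurd (mem_top x) hx')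
      rw [pow_zero, mul_one] at h3
      exact (Nat.mul_le_mul h3 (Nat.pow_le_pow_right hp.out.pos he)).trans (by rw [← pow_add, tri])
    obtain ⟨M, hMc, hMH, hKM⟩ : ∃ M : Subgroup G, IsCoatom M ∧ M ≠ H ∧ (1 ≤ e → K ⊓ M ≤ H) := by
      rcases Nat.eq_zero_or_pos e with rfl | he1
      · obtain ⟨x, -, hx⟩ := SetLike.exists_of_lt hHc.1.lt_top
        obtain ⟨M, hM, hxM⟩ := (eq_top_or_exists_le_coatom (zpowers x)).resolve_left (hnc x)
        exact ⟨M, hM, fun e' => hx (e' ▸ hxM (mem_zpowers x)), fun h => absurd h (by omega)⟩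
      · have hKtop : K ≠ ⊤ := fun h => by
          rw [h, Subgroup.index_top] at hKi
          have := Nat.one_lt_pow (by omega : e ≠ 0) hp1
          omega
        obtain ⟨M, a, b, c'⟩ := exists_coatom_avoid hG hHc hKtop fun h => hKH ⟨he1, h⟩
        exact ⟨M, a, b, fun _ => c'⟩
    obtain ⟨hMn, hMi⟩ := coatom_props hG hMc
    haveI := hMn
    haveI := hKn
    obtain ⟨g, hgH, hgM, hgK⟩ := exists_outside hG hHc hMc hMH K
    have hsup : M ⊔ zpowers g = ⊤ := hMc.2 _ (lt_of_le_of_ne le_sup_left fun h =>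
      hgM (h.symm ▸ mem_sup_right (mem_zpowers g)))
    have hcard := card_commutator_le hsup
    have hM' : Nat.card (commutator M) = Nat.card ↥⁅M, M⁆ := by
      rw [← M.map_subtype_commutator]
      exact (Subgroup.card_map_of_injective M.subtype_injective).symm
    set J := (commHom M g).ker with hJ
    have hMlt : Nat.card M < Nat.card G := by
      rw [← M.index_mul_card, hMi]
      exact lt_mul_of_one_lt_left Nat.card_pos hp1
    obtain ⟨j, hj⟩ := (hG.to_subgroup M).index J
    have hRj : Nat.card (commHom M g).range = p ^ j := by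
      rw [← Subgroup.index_ker, ← hJ, hj]
    have hHM : H.subgroupOf M ≠ ⊤ := fun h => by
      rcases (Subgroup.subgroupOf_eq_top.1 h).eq_or_lt with h' | h'
      · exact hMH h'
      · exact hHc.1 (hMc.2 H h')
    -- centraliser indices in `M`
    have hidx : ∀ m : M, (centralizer ({m} : Set M)).index ≤ (centralizer ({(m : G)} : Set G)).index := fun m => by
      rw [index_centralizer_subgroup, ← Subgroup.relIndex_top_right]
      exact Subgroup.relIndex_le_of_le_right (le_top (a := M))
        (by rw [Subgroup.relIndex_top_right]; exact Subgroup.index_ne_zero_of_finite)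
    have hdrop : ∀ m : M, m ∉ J →
        (centralizer ({m} : Set M)).index * p = (centralizer ({(m : G)} : Set G)).index := fun m hm => by
      have hle' : centralizer ({(m : G)} : Set G) ≤ M := by
        intro y hy
        by_contra hyM
        refine hm ?_
        obtain ⟨a, ha, z, ⟨i, rfl⟩, e'⟩ := Subgroup.mem_sup_of_normal_left.1
          ((hMc.2 _ (lt_of_le_of_ne le_sup_left fun h => hyM (h.symm ▸ mem_sup_right (mem_zpowers y)))).symm ▸
            mem_top g : g ∈ M ⊔ zpowers y)
        rw [hJ, MonoidHom.mem_ker, commHom_apply, QuotientGroup.eq_one_iff]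
        have hc : Commute (y ^ i) (m : G) := (show Commute y (m : G) from mem_centralizer_singleton_iff.1 hy).zpow_left i
        have e2 : ⁅(m : G), g⁆ = ⁅(m : G), a⁆ := by
          rw [← e', commutatorElement_def, commutatorElement_def, _root_.mul_inv_rev,
            show (m : G) * (a * y ^ i) * (m : G)⁻¹ * ((y ^ i)⁻¹ * a⁻¹) =
              (m : G) * a * (y ^ i * (m : G)⁻¹) * (y ^ i)⁻¹ * a⁻¹ by group, hc.inv_right.eq]
          group
        rw [e2]
        exact Subgroup.commutator_mem_commutator m.2 ha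
      rw [index_centralizer_subgroup, ← hMi]
      exact Subgroup.relIndex_mul_index hle'
    have hjle : p ^ j ≤ (centralizer ({g} : Set G)).index := by
      rw [← hj]
      have h3 : (centralizer ({g} : Set G)).subgroupOf M ≤ J := fun m hm => by
        rw [hJ, MonoidHom.mem_ker, commHom_apply, commutatorElement_eq_one_iff_mul_comm.2
          (mem_centralizer_singleton_iff.1 (Subgroup.mem_subgroupOf.1 hm)), QuotientGroup.mk_one]
      refine (Nat.le_of_dvd (Nat.pos_of_ne_zero
        (Subgroup.index_ne_zero_of_finite (H := (centralizer ({g} : Set G)).subgroupOf M)))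
        (Subgroup.index_dvd_of_le h3)).trans ?_
      rw [← Subgroup.relIndex_top_right (centralizer ({g} : Set G))]
      exact Subgroup.relIndex_le_of_le_right (H := centralizer ({g} : Set G)) (le_top (a := M))
        (by rw [Subgroup.relIndex_top_right]; exact Subgroup.index_ne_zero_of_finite)
    have hjb : j ≤ c + 1 := (Nat.pow_le_pow_iff_right hp1).1 (hjle.trans (h1 g hgH))
    have hgen : Nat.card (commutator G) ≤ Nat.card (commutator M) * p ^ j := by rwa [hM', ← hRj]
    rcases Nat.eq_zero_or_pos e with rfl | he1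
    · have h3 := ih M (hG.to_subgroup M) (c + 1) j (by omega) hjb (H.subgroupOf M) J hHM
        inferInstance hj (fun m hm => (hidx m).trans (h1 _ fun h => hm h))
        (fun m hm hm' => by rw [hdrop m hm']; exact h1 _ fun h => hm h)
      rw [pow_zero, mul_one]
      exact hgen.trans h3
    have hK' : ∀ m : M, m ∉ H.subgroupOf M → (centralizer ({(m : G)} : Set G)).index * p ≤ p ^ (c + 1) :=
      fun m hm => h2 _ (fun h => hm h) fun h => hm (hKM he1 ⟨h, m.2⟩)
    have rec_ : ∀ (J' : Subgroup M) (j' : ℕ), J ≤ J' → J'.Normal → J'.index = p ^ j' → j' ≤ c →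
        Nat.card (commutator M) * p ^ j' ≤ p ^ tri c := fun J' j' hJJ hn' hi' hc' =>
      ih M (hG.to_subgroup M) c j' (by omega) hc' (H.subgroupOf M) J' hHM hn' hi'
        (fun m hm => (hidx m).trans (le_pred hp.out.pos (hK' m hm) hb))
        (fun m hm hm' => by
          rw [hdrop m fun h => hm' (hJJ h)]
          exact le_pred hp.out.pos (hK' m hm) hb)
    by_cases hjc : j ≤ c
    · have h3 := rec_ J j le_rfl inferInstance hj hjc
      exact (Nat.mul_le_mul (hgen.trans h3) (Nat.pow_le_pow_right hp.out.pos he)).trans (by rw [← pow_add, tri])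
    -- the exceptional situation `j = b`
    have hje : j = c + 1 := by omega
    have hgKmem : g ∈ K := by
      by_contra hgK'
      have := le_pred hp.out.pos (h2 g hgH hgK') hb
      have := (Nat.pow_le_pow_iff_right hp1).1 (hjle.trans this)
      omega
    have he2 : e = 1 := by
      by_contra h
      refine hgK ?_ hgKmem
      rw [hKi, ← sq]
      exact Nat.pow_le_pow_right hp.out.pos (by omega)
    subst he2
    rcases Nat.eq_zero_or_pos c with rfl | hc0
    · have hJt : J = ⊤ := eq_top_of_compl_subset hHM fun m hm => by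
        by_contra hm'
        have h3 := hK' m hm
        rw [← hdrop m hm', zero_add, pow_one, mul_assoc] at h3
        have := Nat.pos_of_ne_zero (Subgroup.index_ne_zero_of_finite (H := centralizer ({m} : Set M)))
        nlinarith
      rw [hJt, Subgroup.index_top, hje] at hj
      have := Nat.one_lt_pow (by omega : 0 + 1 ≠ 0) hp1
      omega
    obtain ⟨x, hx⟩ := exists_prime_orderOf_dvd_card' (G := M ⧸ J) p
      (by rw [← Subgroup.index_eq_card, hj, hje]; exact dvd_pow_self p (by omega))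
    have hJ' : ((zpowers x).comap (QuotientGroup.mk' J)).index = p ^ c := by
      rw [Subgroup.index_comap_of_surjective _ (QuotientGroup.mk'_surjective J)]
      refine Nat.eq_of_mul_eq_mul_right hp.out.pos ?_
      rw [← pow_succ, ← hje, ← hj, J.index_eq_card, ← (zpowers x).index_mul_card, Nat.card_zpowers, hx]
    have hJle : J ≤ (zpowers x).comap (QuotientGroup.mk' J) := fun y hy => by
      rw [Subgroup.mem_comap, QuotientGroup.mk'_apply, (QuotientGroup.eq_one_iff y).2 hy]
      exact one_mem _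
    have hMJ : commutator M ≤ J := by
      intro y hy
      have h4 : (y : G) ∈ ⁅M, M⁆ := by
        rw [← M.map_subtype_commutator]; exact ⟨y, hy, rfl⟩
      rw [hJ, MonoidHom.mem_ker, commHom_apply, QuotientGroup.eq_one_iff]
      have : ⁅M, M⁆.Normal := inferInstance
      rw [commutatorElement_def, mul_assoc, mul_assoc, ← mul_assoc g]
      exact mul_mem h4 (Subgroup.Normal.conj_mem inferInstance _ (inv_mem h4) g)
    have h3 := rec_ _ c hJle
      ⟨fun y hy z => by
        have h4 : ⁅z, y⁆ ∈ (zpowers x).comap (QuotientGroup.mk' J) :=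
          hJle (hMJ (Subgroup.commutator_mem_commutator (mem_top z) (mem_top y)))
        have e4 : z * y * z⁻¹ = ⁅z, y⁆ * y := by rw [commutatorElement_def]; group
        rw [e4]
        exact mul_mem h4 hy⟩ hJ' le_rfl
    calc Nat.card (commutator G) * p ^ 1 ≤ Nat.card (commutator M) * p ^ j * p ^ 1 := Nat.mul_le_mul_right _ hgen
      _ = Nat.card (commutator M) * p ^ c * p ^ 2 := by rw [hje]; ring
      _ ≤ p ^ tri c * p ^ 2 := Nat.mul_le_mul_right _ h3
      _ ≤ p ^ tri (c + 1) := by
        rw [← pow_add, tri]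
        exact Nat.pow_le_pow_right hp.out.pos (by omega)

theorem vaughan_lee {G : Type u} [Group G] [Finite G] {p : ℕ} [Fact p.Prime] (hG : IsPGroup p G) (b : ℕ)
    (hb : ∀ x : G, (centralizer ({x} : Set G)).index ≤ p ^ b) :
    Nat.card (commutator G) ≤ p ^ (b * (b + 1) / 2) := by
  rcases subsingleton_or_nontrivial G with h | h
  · calc Nat.card (commutator G) ≤ 1 := Finite.card_le_one_iff_subsingleton.2 inferInstance
      _ ≤ _ := Nat.one_le_pow _ _ (Fact.out : p.Prime).pos
  · have := main p (Nat.card G + b) G hG b 0 le_rfl (Nat.zero_le _) ⊥ ⊤ bot_ne_top inferInstance (by simp)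
      (fun x _ => hb x) (fun x _ hx' => absurd (mem_top x) hx')
    rw [pow_zero, mul_one, tri_eq] at this
    exact this

end Cfsg.Agent.Breadth
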